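import Groth.Agent.S9711
import Groth.Agent.S9371
import Groth.Agent.S8919
import Groth.Agent.S8656
import Groth.Agent.S5021
import Groth.Agent.OmegaExistsLib.Main
import Groth.Agent.OmegaAffLib.Apps
import Groth.Agent.PerfLib.Restrict
import Groth.Agent.KFlatLib.PerfectPull
import Groth.Agent.CohCmpLib.StratIff
import Groth.Agent.RankLocusLib.Mod
import Groth.Agent.KHeartLib.Classes
import Groth.Agent.RegImmKindLib.KindFlat

/-!
# Two smooth factorisations of a complete intersection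
-/

set_option autoImplicit false
set_option linter.style.haveILetI false
universe u
open CategoryTheory CategoryTheory.Limits AlgebraicGeometry TopologicalSpace

noncomputable section

namespace FactIndepLib

/-- The conormal sheaf of a complete intersection in a smooth scheme is finite locally free. -/
theorem finLocFree_conormal {X Y V : Scheme.{u}} (f : X ⟶ Y) (hf : ∀ x : X, Synt.IsKoszulAt f x)
    (g : V ⟶ Y) [Smooth g] (i : X ⟶ V) [IsImmersion i] [QuasiCompact i] (hi : i ≫ g = f) :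
    FlatMod.IsFinLocFree (Omega.conormal i) := by
  have h := Groth.Agent.S8656.result f hf g i hi
  refine Groth.Agent.S8919.isFinLocFree_conormal i ⟨h.1, fun z => ?_⟩
  obtain ⟨U, hz, hc, rs, hrs, hk⟩ := h.2 z
  exact ⟨U, hz, hc, rs, RegImmKindLib.seq_h1_of_koszul hrs, hk⟩

/-- Differentials of the open piece of a base change. -/
theorem nonempty_pullOmega_iso {X Y V V' P : Scheme.{u}} (g : V ⟶ Y) (g' : V' ⟶ Y) {p₁ : P ⟶ V} {p₂ : P ⟶ V'}
    (H : IsPullback p₂ p₁ g' g) (W : P.Opens) (k : X ⟶ (W : Scheme.{u})) {i' : X ⟶ V'}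
    (hk₂ : k ≫ W.ι ≫ p₂ = i') (Ω' : V'.Modules) (d' : OmegaSh.Der g' Ω') (hd' : OmegaSh.IsUniversal d')
    (ΩW : (W : Scheme.{u}).Modules) (dW : OmegaSh.Der (W.ι ≫ p₁) ΩW) (hdW : OmegaSh.IsUniversal dW) :
    Nonempty ((Scheme.Modules.pullback k).obj ΩW ≅ (Scheme.Modules.pullback i').obj Ω') := by
  obtain ⟨ΩP, dP, hdP⟩ := OmegaExistsLib.exists_isUniversal p₁
  obtain ⟨c₁, hc₁, -⟩ := OmegaAffLib.existsUnique_diffCompat H.w.symm d' hd' dP
  haveI := OmegaAffLib.isIso_of_isPullback H hd' hdP hc₁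
  obtain ⟨c₂, hc₂, -⟩ := OmegaAffLib.existsUnique_diffCompat (b := 𝟙 V) (h := W.ι) (f' := W.ι ≫ p₁)
    (Category.comp_id _) dP hdP dW
  haveI := OmegaAffLib.isIso_of_etale (h := W.ι) (b := 𝟙 V) (by rw [Category.comp_id]) hdP hdW hc₂
  exact ⟨(Scheme.Modules.pullback k).mapIso (asIso c₂).symm ≪≫
      (Scheme.Modules.pullback k).mapIso ((Scheme.Modules.pullback W.ι).mapIso (asIso c₁).symm) ≪≫
      (Scheme.Modules.pullback k).mapIso ((Scheme.Modules.pullbackComp W.ι p₂).app Ω') ≪≫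
      (Scheme.Modules.pullbackComp k (W.ι ≫ p₂)).app Ω' ≪≫ (Scheme.Modules.pullbackCongr hk₂).app Ω'⟩

/-- The sequence comparing a factorisation with a finer one. -/
theorem exists_ses {X Y V V' P : Scheme.{u}}
    (g : V ⟶ Y) (i : X ⟶ V) [IsImmersion i] [QuasiCompact i] (g' : V' ⟶ Y) [Smooth g'] (i' : X ⟶ V')
    {p₁ : P ⟶ V} {p₂ : P ⟶ V'} (H : IsPullback p₂ p₁ g' g) (W : P.Opens)
    (k : X ⟶ (W : Scheme.{u})) [IsImmersion k] [QuasiCompact k]
    (hk₁ : k ≫ W.ι ≫ p₁ = i) (hk₂ : k ≫ W.ι ≫ p₂ = i')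
    (Ω' : V'.Modules) (d' : OmegaSh.Der g' Ω') (hd' : OmegaSh.IsUniversal d') :
    ∃ S : ShortComplex X.Modules, S.ShortExact ∧ Nonempty (S.X₁ ≅ Omega.conormal i) ∧
      Nonempty (S.X₂ ≅ Omega.conormal k) ∧ Nonempty (S.X₃ ≅ (Scheme.Modules.pullback i').obj Ω') := by
  haveI : Smooth p₁ := MorphismProperty.of_isPullback H ‹Smooth g'›
  haveI : Smooth (W.ι ≫ p₁) := inferInstance
  obtain ⟨ΩW, dW, hdW⟩ := OmegaExistsLib.exists_isUniversal (W.ι ≫ p₁)
  obtain ⟨e⟩ := nonempty_pullOmega_iso g g' H W k hk₂ Ω' d' hd' ΩW dW hdW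
  obtain ⟨ψ, hψ, -⟩ := Groth.Agent.S9371.result k i (W.ι ≫ p₁) (𝟙 X) (by rw [Category.id_comp, hk₁])
  obtain ⟨φ, hφ⟩ := ConormalSecLib.exists_conormalDiff k dW
  obtain ⟨w, hS⟩ := Groth.Agent.S9711.result (W.ι ≫ p₁) k i hk₁ ΩW dW hdW ψ hψ φ hφ
  exact ⟨ShortComplex.mk ψ φ w, hS, ⟨(Scheme.Modules.pullbackId X).app _⟩, ⟨Iso.refl _⟩, ⟨e⟩⟩

/-- The common refinement of two factorisations. -/
theorem exists_refinement {X Y V V' : Scheme.{u}} (f : X ⟶ Y) (hf : ∀ x : X, Synt.IsKoszulAt f x)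
    (g : V ⟶ Y) [Smooth g] (i : X ⟶ V) [IsClosedImmersion i] (hi : i ≫ g = f)
    (g' : V' ⟶ Y) [Smooth g'] (i' : X ⟶ V') [IsClosedImmersion i'] (hi' : i' ≫ g' = f)
    (Ω : V.Modules) (d : OmegaSh.Der g Ω) (hd : OmegaSh.IsUniversal d)
    (Ω' : V'.Modules) (d' : OmegaSh.Der g' Ω') (hd' : OmegaSh.IsUniversal d') :
    ∃ (N : X.Modules) (S S' : ShortComplex X.Modules), FlatMod.IsFinLocFree N ∧ S.ShortExact ∧ S'.ShortExact ∧
      Nonempty (S.X₁ ≅ Omega.conormal i) ∧ Nonempty (S.X₂ ≅ N) ∧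
        Nonempty (S.X₃ ≅ (Scheme.Modules.pullback i').obj Ω') ∧
      Nonempty (S'.X₁ ≅ Omega.conormal i') ∧ Nonempty (S'.X₂ ≅ N) ∧
        Nonempty (S'.X₃ ≅ (Scheme.Modules.pullback i).obj Ω) := by
  have H : IsPullback (pullback.fst g g') (pullback.snd g g') g g' := IsPullback.of_hasPullback g g'
  let k₀ : X ⟶ pullback g g' := pullback.lift i i' (hi.trans hi'.symm)
  haveI : IsImmersion k₀ := by
    haveI : IsImmersion (k₀ ≫ pullback.fst g g') := by rw [pullback.lift_fst]; infer_instance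
    exact IsImmersion.of_comp k₀ (pullback.fst g g')
  let W := k₀.coborderRange
  let k : X ⟶ (W : Scheme.{u}) := k₀.liftCoborder
  have hk₁ : k ≫ W.ι ≫ pullback.fst g g' = i := by
    rw [← Category.assoc, Scheme.Hom.liftCoborder_ι, pullback.lift_fst]
  have hk₂ : k ≫ W.ι ≫ pullback.snd g g' = i' := by
    rw [← Category.assoc, Scheme.Hom.liftCoborder_ι, pullback.lift_snd]
  haveI : Smooth (pullback.fst g g') := MorphismProperty.pullback_fst _ _ ‹Smooth g'›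
  haveI : Smooth ((W.ι ≫ pullback.fst g g') ≫ g) := inferInstance
  have hN := finLocFree_conormal f hf ((W.ι ≫ pullback.fst g g') ≫ g) k
    (by rw [← Category.assoc, hk₁, hi])
  obtain ⟨S, hS, h₁, h₂, h₃⟩ := exists_ses g i g' i' H.flip W k hk₁ hk₂ Ω' d' hd'
  obtain ⟨S', hS', h₁', h₂', h₃'⟩ := exists_ses g' i' g i H W k hk₂ hk₁ Ω d hd
  exact ⟨_, S, S', hN, hS, hS', h₁, h₂, h₃, h₁', h₂', h₃'⟩

/-- Finite local freeness of the pullback of the differentials of a smooth morphism. -/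
theorem finLocFree_pullOmega {X Y V : Scheme.{u}} (g : V ⟶ Y) [Smooth g] (i : X ⟶ V)
    {Ω : V.Modules} {d : OmegaSh.Der g Ω} (hd : OmegaSh.IsUniversal d) :
    FlatMod.IsFinLocFree ((Scheme.Modules.pullback i).obj Ω) :=
  KFlatLib.isFinLocFree_pull i (Groth.Agent.S5021.finLocFree_omega hd)

/-- Classes add along sequences with given terms. -/
theorem cl_eq_add {X : Scheme.{u}} {A B C : X.Modules} (hA : FlatMod.IsFinLocFree A) (hB : FlatMod.IsFinLocFree B)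
    (hC : FlatMod.IsFinLocFree C) (S : ShortComplex X.Modules) (hS : S.ShortExact) (e₁ : Nonempty (S.X₁ ≅ A))
    (e₂ : Nonempty (S.X₂ ≅ B)) (e₃ : Nonempty (S.X₃ ≅ C)) : KRR.cl X B = KRR.cl X A + KRR.cl X C := by
  obtain ⟨e₁⟩ := e₁
  obtain ⟨e₂⟩ := e₂
  obtain ⟨e₃⟩ := e₃
  let T := ShortComplex.mk (e₁.inv ≫ S.f ≫ e₂.hom) (e₂.inv ≫ S.g ≫ e₃.hom) (by simp)
  have hT : T.ShortExact := ShortComplex.shortExact_of_iso
    (ShortComplex.isoMk (S₁ := S) (S₂ := T) e₁ e₂ e₃ (by simp [T]) (by simp [T])) hS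
  exact Groth.Agent.KHeartLib.clSub_add (KRR.vbP X) T hT hA hB hC

/-- A rank given on a restriction is the rank nearby. -/
theorem exists_free_of_rank {X : Scheme.{u}} {M : X.Modules} {U : X.Opens} {a : ℕ} {x : X} (hx : x ∈ U)
    (h : FlatMod.IsFinLocFreeOfRank a ((Scheme.Modules.restrictFunctor U.ι).obj M)) :
    ∃ O : X.Opens, x ∈ O ∧ Nonempty (M.restrict O.ι ≅ FlatMod.freeMod (↑O) a) := by
  obtain ⟨U', hxU', ⟨e⟩⟩ := h ⟨x, hx⟩
  refine ⟨U.ι ''ᵁ U', ⟨⟨x, hx⟩, hxU', rfl⟩, ?_⟩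
  have h1 : RankLocusLib.FreeAlong a M (U'.ι ≫ U.ι) := by
    rw [← RankLocusLib.freeAlong_pullback_iff U.ι U'.ι]
    exact ⟨(Scheme.Modules.pullback U'.ι).mapIso ((Scheme.Modules.restrictFunctorIsoPullback U.ι).app M).symm ≪≫
      ((Scheme.Modules.restrictFunctorIsoPullback U'.ι).app _).symm ≪≫ e⟩
  rw [← RankLocusLib.freeAlong_restrict_iff]
  have h2 := RankLocusLib.freeAlong_comp h1 (U.ι.isoImage U').inv
  rwa [show (U.ι.isoImage U').inv ≫ U'.ι ≫ U.ι = (U.ι ''ᵁ U').ι by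
    rw [← cancel_epi (U.ι.isoImage U').hom, Iso.hom_inv_id_assoc, Scheme.Hom.isoImage_hom_ι]] at h2

end FactIndepLib
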